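import Groth.Agent.SmoothFrob.Tower
import Groth.Agent.RelFrob17.Basic

/-!
# The relative Frobenius of a smooth algebra
-/

set_option autoImplicit false
set_option linter.style.haveILetI false
universe v w u

open TensorProduct

namespace Groth.Agent.SmoothFrob

theorem relFrob_tmul_apply (p : ℕ) [Fact p.Prime] (A : Type u) [CommRing A] [CharP A p]
    (B : Type v) [CommRing B] [Algebra A B] [CharP B p] (b : B) (a : A) :
    FrobAlg.relFrob p A B (b ⊗ₜ FrobAlg.toTwist p A a) = b ^ p * algebraMap A B a := by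
  simp [FrobAlg.relFrob, FrobAlg.frobHom, FrobAlg.inclHom, frobenius_def]

theorem relFrob_natural (p : ℕ) [Fact p.Prime] (A : Type u) [CommRing A] [CharP A p]
    {B : Type v} [CommRing B] [Algebra A B] [CharP B p] {B' : Type w} [CommRing B'] [Algebra A B'] [CharP B' p]
    (f : B →ₐ[A] B') (x : FrobAlg.BaseChange p A B) :
    f (FrobAlg.relFrob p A B x) =
      FrobAlg.relFrob p A B' (Algebra.TensorProduct.map f (AlgHom.id A (FrobAlg.Twist p A)) x) := by
  induction x using TensorProduct.induction_on with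
  | zero => simp only [map_zero]
  | tmul b a =>
    obtain ⟨a, rfl⟩ := (FrobAlg.toTwist p A).surjective a
    rw [Algebra.TensorProduct.map_tmul, relFrob_tmul_apply, map_mul, map_pow, AlgHom.commutes]
    exact (relFrob_tmul_apply p A B' (f b) a).symm
  | add x y hx hy => simp only [map_add, hx, hy]

set_option backward.isDefEq.respectTransparency false in
/-- If `B` is etale over `A[x₁, …, xₙ]`, then `B` is `B^{(p)}` with `p`-th roots of the `xᵢ ⊗ 1` adjoined. -/
theorem hasRoots_relFrob (p : ℕ) [Fact p.Prime] (A : Type u) [CommRing A] [CharP A p]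
    (B : Type u) [CommRing B] [Algebra A B] [CharP B p] {n : ℕ}
    (g : MvPolynomial (Fin n) A →ₐ[A] B) (hg : g.toRingHom.Etale) :
    HasRoots p (FrobAlg.relFrob p A B) (fun i => g (MvPolynomial.X i) ⊗ₜ FrobAlg.toTwist p A 1)
      (fun i => g (MvPolynomial.X i)) := by
  letI : Algebra (MvPolynomial (Fin n) A) B := g.toRingHom.toAlgebra
  haveI : Algebra.Etale (MvPolynomial (Fin n) A) B := hg
  have hρ := RelFrob17.bijective_of_etale p (MvPolynomial (Fin n) A) B
  let ρ : FrobAlg.BaseChange p (MvPolynomial (Fin n) A) B ≃+* B := RingEquiv.ofBijective _ hρ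
  refine ⟨fun i => by rw [relFrob_tmul_apply, map_one, mul_one], fun D _ ψ d hd => ?_⟩
  let ψ₁ : B →+* D := ψ.comp
    (Algebra.TensorProduct.includeLeft (R := A) (S := A) : B →ₐ[A] FrobAlg.BaseChange p A B).toRingHom
  let ψ₂ : A →+* D := ψ.comp ((Algebra.TensorProduct.includeRight :
    FrobAlg.Twist p A →ₐ[A] FrobAlg.BaseChange p A B).toRingHom.comp (FrobAlg.toTwist p A).toRingHom)
  let χ : MvPolynomial (Fin n) A →+* D := MvPolynomial.eval₂Hom ψ₂ d
  have hχ : ∀ f, χ (f ^ p) = ψ₁ (g f) := by
    have e : χ.comp (frobenius (MvPolynomial (Fin n) A) p) = ψ₁.comp g.toRingHom := by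
      refine MvPolynomial.ringHom_ext (fun a => ?_) (fun i => ?_)
      · rw [RingHom.comp_apply, RingHom.comp_apply, frobenius_def, ← map_pow,
          MvPolynomial.eval₂Hom_C]
        show ψ (1 ⊗ₜ[A] FrobAlg.toTwist p A (a ^ p)) = ψ (g (MvPolynomial.C a) ⊗ₜ[A] 1)
        rw [← MvPolynomial.algebraMap_eq, AlgHom.commutes, ← FrobAlg.algebraMap_twist,
          Algebra.algebraMap_eq_smul_one, Algebra.algebraMap_eq_smul_one, TensorProduct.tmul_smul,
          TensorProduct.smul_tmul']
      · rw [RingHom.comp_apply, RingHom.comp_apply, frobenius_def, map_pow, MvPolynomial.eval₂Hom_X',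
          hd i, map_one]
        rfl
    exact fun f => RingHom.congr_fun e f
  letI : Algebra (MvPolynomial (Fin n) A) D := (ψ₁.comp g.toRingHom).toAlgebra
  let F : B →ₐ[MvPolynomial (Fin n) A] D := { ψ₁ with commutes' := fun f => rfl }
  let G : FrobAlg.Twist p (MvPolynomial (Fin n) A) →ₐ[MvPolynomial (Fin n) A] D :=
    { χ.comp (FrobAlg.toTwist p _).symm.toRingHom with
      commutes' := fun f => by
        show χ ((FrobAlg.toTwist p _).symm (algebraMap _ _ f)) = ψ₁ (g f)
        rw [FrobAlg.algebraMap_twist, RingEquiv.symm_apply_apply, hχ] }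
  let L := Algebra.TensorProduct.lift F G (fun x y => Commute.all _ _)
  let θ : B →+* D := L.toRingHom.comp ρ.symm.toRingHom
  have hθ : ∀ y, θ (ρ y) = L y := fun y => congrArg L (ρ.symm_apply_apply y)
  have hθpow : ∀ (b : B) (f : MvPolynomial (Fin n) A), θ (b ^ p * g f) = ψ₁ b * χ f := fun b f => by
    have h1 : ρ (b ⊗ₜ FrobAlg.toTwist p _ f) = b ^ p * g f := relFrob_tmul_apply p _ B b f
    rw [← h1, hθ]
    exact Algebra.TensorProduct.lift_tmul _ _ _ _ _
  refine ⟨θ, ⟨RingHom.ext fun x => ?_, fun i => ?_⟩, fun θ₂ h₂ => ?_⟩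
  · induction x using TensorProduct.induction_on with
    | zero => simp only [map_zero]
    | tmul b a =>
      obtain ⟨a, rfl⟩ := (FrobAlg.toTwist p A).surjective a
      rw [RingHom.comp_apply, relFrob_tmul_apply, ← AlgHom.commutes g a, MvPolynomial.algebraMap_eq, hθpow,
        MvPolynomial.eval₂Hom_C]
      show ψ (b ⊗ₜ[A] (1 : FrobAlg.Twist p A)) * ψ (1 ⊗ₜ[A] FrobAlg.toTwist p A a) = _
      rw [← map_mul, Algebra.TensorProduct.tmul_mul_tmul, one_mul, mul_one]
    | add x y hx hy => simp only [map_add, hx, hy]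
  · have := hθpow 1 (MvPolynomial.X i)
    rw [one_pow, one_mul, map_one, one_mul, MvPolynomial.eval₂Hom_X'] at this
    exact this
  · refine RingHom.ext fun x => ?_
    obtain ⟨y, rfl⟩ := ρ.surjective x
    have hχ₂ : θ₂.comp g.toRingHom = χ := by
      refine MvPolynomial.ringHom_ext (fun a => ?_) (fun i => ?_)
      · rw [MvPolynomial.eval₂Hom_C]
        show θ₂ (g (MvPolynomial.C a)) = ψ (1 ⊗ₜ[A] FrobAlg.toTwist p A a)
        rw [← h₂.1, RingHom.comp_apply, relFrob_tmul_apply, one_pow, one_mul, ← MvPolynomial.algebraMap_eq,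
          AlgHom.commutes]
      · rw [MvPolynomial.eval₂Hom_X']
        exact h₂.2 i
    induction y using TensorProduct.induction_on with
    | zero => simp only [map_zero]
    | tmul b f =>
      obtain ⟨f, rfl⟩ := (FrobAlg.toTwist p _).surjective f
      have h1 : ρ (b ⊗ₜ FrobAlg.toTwist p _ f) = b ^ p * g f := relFrob_tmul_apply p _ B b f
      rw [h1, hθpow, map_mul, ← RingHom.congr_fun hχ₂ f]
      congr 1
      show θ₂ (b ^ p) = ψ (b ⊗ₜ[A] FrobAlg.toTwist p A 1)
      rw [← h₂.1, RingHom.comp_apply, relFrob_tmul_apply, map_one, mul_one]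
    | add x y hx hy => simp only [map_add, hx, hy]

theorem charP_of_algebra (p : ℕ) [Fact p.Prime] (A : Type u) [CommRing A] [CharP A p] (L : Type v) [CommRing L]
    [Nontrivial L] [Algebra A L] : CharP L p :=
  (CharP.charP_iff_prime_eq_zero Fact.out).2 (by rw [← map_natCast (algebraMap A L), CharP.cast_eq_zero, map_zero])

theorem exists_etale (A : Type u) [CommRing A] (B : Type u) [CommRing B] [Algebra A B]
    [Algebra.IsStandardSmooth A B] :
    ∃ (n : ℕ) (g : MvPolynomial (Fin n) A →ₐ[A] B), g.toRingHom.Etale := by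
  obtain ⟨n, g, hg, he⟩ := RingHom.IsStandardSmooth.exists_etale_mvPolynomial
    (RingHom.isStandardSmooth_algebraMap.2 ‹Algebra.IsStandardSmooth A B›)
  exact ⟨n, { g with commutes' := fun a => RingHom.congr_fun hg a }, he⟩

theorem flat_relFrob (p : ℕ) [Fact p.Prime] (A : Type u) [CommRing A] [CharP A p]
    (B : Type u) [CommRing B] [Algebra A B] [CharP B p] [Algebra.Smooth A B] :
    (FrobAlg.relFrob p A B).Flat := by
  obtain ⟨s, hs, hsm⟩ := Algebra.Smooth.exists_span_eq_top_isStandardSmooth A B
  refine RingHom.Flat.ofLocalizationSpanTarget _ s hs fun r => ?_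
  cases subsingleton_or_nontrivial (Localization.Away r.1) with
  | inl h =>
    letI := ((algebraMap B (Localization.Away r.1)).comp (FrobAlg.relFrob p A B)).toAlgebra
    exact (inferInstance : Module.Flat (FrobAlg.BaseChange p A B) (Localization.Away r.1))
  | inr h =>
    haveI := charP_of_algebra p A (Localization.Away r.1)
    haveI := hsm r.1 r.2
    obtain ⟨n, g, hg⟩ := exists_etale A (Localization.Away r.1)
    let f := IsScalarTower.toAlgHom A B (Localization.Away r.1)
    have e : (algebraMap B (Localization.Away r.1)).comp (FrobAlg.relFrob p A B) =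
        (FrobAlg.relFrob p A (Localization.Away r.1)).comp
          (Algebra.TensorProduct.map f (AlgHom.id A (FrobAlg.Twist p A))).toRingHom :=
      RingHom.ext fun x => relFrob_natural p A f x
    rw [e]
    refine RingHom.Flat.comp ?_ ((hasRoots_relFrob p A _ g hg).flat (Fact.out : p.Prime).ne_zero)
    refine RingHom.Flat.tensorProductMap (f := f) ?_ (RingHom.Flat.id _)
    exact RingHom.flat_algebraMap_iff.2 (IsLocalization.flat _ (Submonoid.powers r.1))

end Groth.Agent.SmoothFrob
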