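import Mathlib
import Groth.Prelude.Def_W4c2gaugesfzipsQuiet

/-!
# The universal property of a tower of `p`-th root extractions
-/

set_option autoImplicit false
set_option linter.style.haveILetI false
universe u

open Polynomial

namespace Groth.Agent.SmoothFrob

/-- `φ : R → C` makes `C` the universal `R`-algebra with `p`-th roots `c i` of the elements `b i`. -/
def HasRoots (p : ℕ) {R C : Type u} [CommRing R] [CommRing C] (φ : R →+* C) {n : ℕ} (b : Fin n → R)
    (c : Fin n → C) : Prop :=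
  (∀ i, c i ^ p = φ (b i)) ∧ ∀ (D : Type u) [CommRing D] (ψ : R →+* D) (d : Fin n → D),
    (∀ i, d i ^ p = ψ (b i)) → ∃! θ : C →+* D, θ.comp φ = ψ ∧ ∀ i, θ (c i) = d i

theorem HasRoots.isRootTower (p : ℕ) : ∀ (n : ℕ) (R C : Type u) [CommRing R] [CommRing C] [Algebra R C]
    (b : Fin n → R) (c : Fin n → C), HasRoots p (algebraMap R C) b c → Quiet.IsRootTower p n R C := by
  intro n
  induction n with
  | zero =>
    intro R C _ _ _ b c h
    obtain ⟨θ, ⟨hθ, -⟩, -⟩ := h.2 R (RingHom.id R) (fun i => i.elim0) (fun i => i.elim0)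
    obtain ⟨θ', -, huniq⟩ := h.2 C (algebraMap R C) c h.1
    have h1 : (algebraMap R C).comp θ = RingHom.id C := by
      rw [huniq ((algebraMap R C).comp θ) ⟨by rw [RingHom.comp_assoc, hθ, RingHom.comp_id], fun i => i.elim0⟩,
        huniq (RingHom.id C) ⟨RingHom.id_comp _, fun i => i.elim0⟩]
    exact ⟨(AlgEquiv.ofBijective (Algebra.ofId R C)
      ⟨Function.LeftInverse.injective (RingHom.congr_fun hθ),
        Function.RightInverse.surjective (RingHom.congr_fun h1)⟩).symm⟩
  | succ n ih =>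
    intro R C _ _ _ b c h
    let φ' : Quiet.RootRing p R (b 0) →+* C :=
      AdjoinRoot.lift (algebraMap R C) (c 0) (by simp [h.1 0])
    have hφ' : φ'.comp (AdjoinRoot.of _) = algebraMap R C := RingHom.ext fun r => by simp [φ']
    letI : Algebra (Quiet.RootRing p R (b 0)) C := φ'.toAlgebra
    have hroot : (AdjoinRoot.root (X ^ p - Polynomial.C (b 0) : R[X])) ^ p =
        AdjoinRoot.of (X ^ p - Polynomial.C (b 0) : R[X]) (b 0) := by
      have := AdjoinRoot.eval₂_root (X ^ p - Polynomial.C (b 0) : R[X])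
      rwa [eval₂_sub, eval₂_X_pow, eval₂_C, sub_eq_zero] at this
    refine ⟨b 0, φ'.toAlgebra, IsScalarTower.of_algebraMap_eq' hφ'.symm,
      ih _ C (fun i => AdjoinRoot.of _ (b i.succ)) (fun i => c i.succ) ⟨fun i => ?_, fun D _ ψ d hd => ?_⟩⟩
    · rw [h.1 i.succ]
      exact (RingHom.congr_fun hφ' _).symm
    · obtain ⟨θ, ⟨hθ, hθc⟩, huniq⟩ := h.2 D (ψ.comp (AdjoinRoot.of _))
        (Fin.cons (ψ (AdjoinRoot.root _)) d) (fun i => by
          induction i using Fin.cases with
          | zero => rw [Fin.cons_zero, ← map_pow, hroot]; rfl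
          | succ i => rw [Fin.cons_succ, hd i]; rfl)
      refine ⟨θ, ⟨AdjoinRoot.ringHom_ext ?_ ?_, fun i => by rw [hθc i.succ, Fin.cons_succ]⟩, fun θ₂ h₂ => ?_⟩
      · rw [RingHom.comp_assoc]
        exact (congrArg θ.comp hφ').trans hθ
      · show θ (φ' (AdjoinRoot.root _)) = _
        rw [AdjoinRoot.lift_root, hθc 0, Fin.cons_zero]
      · refine huniq θ₂ ⟨?_, fun i => ?_⟩
        · rw [← h₂.1, RingHom.comp_assoc]
          exact congrArg θ₂.comp hφ'.symm
        · induction i using Fin.cases with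
          | zero =>
            rw [Fin.cons_zero, ← h₂.1]
            exact congrArg θ₂ (AdjoinRoot.lift_root _).symm
          | succ i => rw [Fin.cons_succ, h₂.2 i]

theorem IsRootTower.flat (p : ℕ) (hp : p ≠ 0) : ∀ (n : ℕ) (R C : Type u) [CommRing R] [CommRing C] [Algebra R C],
    Quiet.IsRootTower p n R C → Module.Flat R C := by
  intro n
  induction n with
  | zero =>
    intro R C _ _ _ ⟨e⟩
    exact .of_linearEquiv e.toLinearEquiv
  | succ n ih =>
    intro R C _ _ _ ⟨a, _, _, h⟩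
    haveI := ih _ C h
    haveI : Module.Free R (Quiet.RootRing p R a) := (Polynomial.monic_X_pow_sub_C a hp).free_adjoinRoot
    exact Module.Flat.trans R (Quiet.RootRing p R a) C

theorem HasRoots.flat {p : ℕ} (hp : p ≠ 0) {R C : Type u} [CommRing R] [CommRing C] {φ : R →+* C} {n : ℕ}
    {b : Fin n → R} {c : Fin n → C} (h : HasRoots p φ b c) : φ.Flat :=
  letI := φ.toAlgebra
  IsRootTower.flat p hp n R C (HasRoots.isRootTower p n R C b c h)

/-- Transport along isomorphisms of the source and the target. -/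
theorem HasRoots.conj {p : ℕ} {R C R' C' : Type u} [CommRing R] [CommRing C] [CommRing R'] [CommRing C']
    {φ : R →+* C} {n : ℕ} {b : Fin n → R} {c : Fin n → C} (h : HasRoots p φ b c)
    (e : R ≃+* R') (f : C ≃+* C') {φ' : R' →+* C'} (hφ : ∀ r, φ' (e r) = f (φ r)) :
    HasRoots p φ' (fun i => e (b i)) (fun i => f (c i)) := by
  refine ⟨fun i => by rw [hφ, ← map_pow, h.1 i], fun D _ ψ d hd => ?_⟩
  obtain ⟨θ, ⟨hθ, hθc⟩, huniq⟩ := h.2 D (ψ.comp e.toRingHom) d hd
  refine ⟨θ.comp f.symm.toRingHom, ⟨RingHom.ext fun r => ?_, fun i => ?_⟩, fun θ₂ h₂ => ?_⟩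
  · obtain ⟨r, rfl⟩ := e.surjective r
    simp only [RingHom.comp_apply, hφ]
    exact (congrArg θ (f.symm_apply_apply _)).trans (RingHom.congr_fun hθ r)
  · exact (congrArg θ (f.symm_apply_apply _)).trans (hθc i)
  · have h3 := huniq (θ₂.comp f.toRingHom) ⟨RingHom.ext fun r => ?_, fun i => h₂.2 i⟩
    · rw [← h3]
      exact RingHom.ext fun x => (congrArg θ₂ (f.apply_symm_apply x)).symm
    · simp only [RingHom.comp_apply, RingEquiv.toRingHom_eq_coe, RingEquiv.coe_toRingHom, ← hφ]
      exact RingHom.congr_fun h₂.1 (e r)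

end Groth.Agent.SmoothFrob
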